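import Mathlib

/-!
# A Euclid-type family of binary forms (helper46)

For elements `σ τ` of a commutative ring we define `EP σ τ m` (of degree `eexp m`) and
`EY σ τ m = τ * EP σ τ m + σ ^ (eexp m + 1)` (of degree `eexp m + 1`) with
`EP σ τ (m+1) = EP σ τ m * EY σ τ m`.  The dehomogenized elements `EY 1 ρ m` are pairwise comaximal,
so over an integral algebra over a field all but finitely many of them are units.
-/

set_option autoImplicit false

namespace Groth.Agent.H46.AmpleInt

variable {R : Type*} [CommRing R]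

/-- the degrees -/
def eexp : ℕ → ℕ
  | 0 => 1
  | m + 1 => 2 * eexp m + 1

/-- the running products -/
def EP (σ τ : R) : ℕ → R
  | 0 => σ + τ
  | m + 1 => EP σ τ m * (τ * EP σ τ m + σ ^ (eexp m + 1))

/-- the forms -/
def EY (σ τ : R) (m : ℕ) : R := τ * EP σ τ m + σ ^ (eexp m + 1)

theorem EP_zero (σ τ : R) : EP σ τ 0 = σ + τ := rfl

theorem EP_succ (σ τ : R) (m : ℕ) : EP σ τ (m + 1) = EP σ τ m * EY σ τ m := rfl

theorem eexp_succ (m : ℕ) : eexp (m + 1) = 2 * eexp m + 1 := rfl

theorem map_EP {S : Type*} [CommRing S] (f : R →+* S) (σ τ : R) (m : ℕ) :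
    f (EP σ τ m) = EP (f σ) (f τ) m := by
  induction m with
  | zero => simp [EP_zero]
  | succ m ih => simp only [EP_succ, EY, map_mul, map_add, map_pow, ih]

theorem map_EY {S : Type*} [CommRing S] (f : R →+* S) (σ τ : R) (m : ℕ) :
    f (EY σ τ m) = EY (f σ) (f τ) m := by
  simp only [EY, map_mul, map_add, map_pow, map_EP]

theorem EP_mul (c σ τ : R) (m : ℕ) : EP (σ * c) (τ * c) m = EP σ τ m * c ^ eexp m := by
  induction m with
  | zero => simp only [EP_zero, eexp, pow_one]; ring
  | succ m ih =>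
    simp only [EP_succ, EY, ih, eexp_succ]
    ring

theorem EY_mul (c σ τ : R) (m : ℕ) : EY (σ * c) (τ * c) m = EY σ τ m * c ^ (eexp m + 1) := by
  simp only [EY, EP_mul]
  ring

/-- `EY σ τ m` lies in the ideal generated by `σ` and `τ`. -/
theorem EY_mem_span (σ τ : R) (m : ℕ) : EY σ τ m ∈ Ideal.span ({σ, τ} : Set R) := by
  refine Ideal.add_mem _ (Ideal.mul_mem_right _ _ (Ideal.subset_span (by simp))) ?_
  exact Ideal.pow_mem_of_mem _ (Ideal.subset_span (by simp)) _ (Nat.succ_pos _)

theorem EY_dvd_EP (σ τ : R) {m m' : ℕ} (h : m < m') : EY σ τ m ∣ EP σ τ m' := by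
  induction m' with
  | zero => omega
  | succ m' ih =>
    rw [EP_succ]
    rcases Nat.lt_succ_iff_lt_or_eq.1 h with h' | rfl
    · exact Dvd.dvd.mul_right (ih h') _
    · exact Dvd.intro_left _ rfl

/-- pairwise comaximality of the dehomogenized family -/
theorem one_mem_of_EY_mem (ρ : R) {m m' : ℕ} (h : m < m') (I : Ideal R)
    (h1 : EY 1 ρ m ∈ I) (h2 : EY 1 ρ m' ∈ I) : (1 : R) ∈ I := by
  obtain ⟨q, hq⟩ := EY_dvd_EP 1 ρ h
  have h3 : EY 1 ρ m' = ρ * EP 1 ρ m' + 1 := by simp [EY]
  have h4 : (1 : R) = EY 1 ρ m' - ρ * q * EY 1 ρ m := by rw [h3, hq]; ring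
  rw [h4]
  exact I.sub_mem h2 (I.mul_mem_left _ h1)

/-- in a local ring: `σ` non-unit and `τ` unit imply that `EP σ τ m` and `EY σ τ m` are units -/
theorem isUnit_EP_EY_of_local [IsLocalRing R] (σ τ : R) (hσ : ¬ IsUnit σ) (hτ : IsUnit τ)
    (m : ℕ) : IsUnit (EP σ τ m) ∧ IsUnit (EY σ τ m) := by
  have key : ∀ x : R, IsUnit x → ∀ k : ℕ, IsUnit (x + σ ^ (k + 1)) := by
    intro x hx k
    by_contra hcon
    have h1 : x + σ ^ (k + 1) ∈ nonunits R := hcon
    have h2 : σ ^ (k + 1) ∈ nonunits R := by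
      rw [mem_nonunits_iff]
      intro h
      exact hσ (isUnit_of_mul_isUnit_left (by rw [← pow_succ']; exact h))
    have h3 : -(σ ^ (k + 1)) ∈ nonunits R := by
      rw [mem_nonunits_iff, IsUnit.neg_iff]; exact h2
    have := IsLocalRing.nonunits_add h1 h3
    rw [add_neg_cancel_right] at this
    exact this hx
  induction m with
  | zero =>
    have h0 : IsUnit (EP σ τ 0) := by
      rw [EP_zero, add_comm]
      have := key τ hτ 0
      rwa [zero_add, pow_one] at this
    exact ⟨h0, key _ (hτ.mul h0) _⟩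
  | succ m ih =>
    have h0 : IsUnit (EP σ τ (m + 1)) := by rw [EP_succ]; exact ih.1.mul ih.2
    exact ⟨h0, key _ (hτ.mul h0) _⟩

section Integral

variable {k C : Type*} [Field k] [CommRing C] [Algebra k C]

/-- for an integral element `ρ`, only finitely many `EY 1 ρ m` are non-units -/
theorem finite_setOf_not_isUnit_EY (ρ : C) (hρ : IsIntegral k ρ) :
    {m : ℕ | ¬ IsUnit (EY 1 ρ m)}.Finite := by
  classical
  let B := Algebra.adjoin k ({ρ} : Set C)
  haveI : Module.Finite k B := Algebra.finite_adjoin_simple_of_isIntegral hρ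
  haveI : IsArtinianRing B := IsArtinianRing.of_finite k B
  let ρB : B := ⟨ρ, Algebra.subset_adjoin rfl⟩
  have hmap : ∀ m, B.val (EY 1 ρB m) = EY 1 ρ m := by
    intro m
    have := map_EY (B.val : B →+* C) 1 ρB m
    simpa using this
  -- the bad set inside `B`
  have hsub : {m : ℕ | ¬ IsUnit (EY 1 ρ m)} ⊆ {m : ℕ | ¬ IsUnit (EY 1 ρB m)} := by
    intro m hm hu
    apply hm
    rw [← hmap m]
    exact hu.map B.val
  refine Set.Finite.subset ?_ hsub
  -- choose a maximal ideal containing each bad element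
  have hch : ∀ m : {m : ℕ | ¬ IsUnit (EY 1 ρB m)},
      ∃ M : MaximalSpectrum B, EY 1 ρB m.1 ∈ M.asIdeal := by
    intro m
    obtain ⟨I, hI, hmem⟩ := exists_max_ideal_of_mem_nonunits (show EY 1 ρB m.1 ∈ nonunits B from m.2)
    exact ⟨⟨I, hI⟩, hmem⟩
  choose M hM using hch
  have hinj : Function.Injective M := by
    intro m m' hmm'
    by_contra hne
    have hne' : m.1 ≠ m'.1 := fun h => hne (Subtype.ext h)
    have h1 := hM m
    have h2 := hM m'
    rw [hmm'] at h1
    have hone : (1 : B) ∈ (M m').asIdeal := by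
      rcases lt_or_gt_of_ne hne' with hlt | hlt
      · exact one_mem_of_EY_mem ρB hlt _ h1 h2
      · exact one_mem_of_EY_mem ρB hlt _ h2 h1
    exact (M m').isMaximal.ne_top ((Ideal.eq_top_iff_one _).2 hone)
  exact Set.finite_coe_iff.1 (Finite.of_injective M hinj)

/-- a common index for finitely many integral elements -/
theorem exists_forall_isUnit_EY {ι : Type*} [Finite ι] (ρ : ι → C) (hρ : ∀ i, IsIntegral k (ρ i)) :
    ∃ m : ℕ, ∀ i, IsUnit (EY 1 (ρ i) m) := by
  have hfin : (⋃ i, {m : ℕ | ¬ IsUnit (EY 1 (ρ i) m)}).Finite :=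
    Set.finite_iUnion (fun i => finite_setOf_not_isUnit_EY (ρ i) (hρ i))
  obtain ⟨m, hm⟩ := hfin.exists_notMem (α := ℕ)
  refine ⟨m, fun i => ?_⟩
  by_contra hcon
  exact hm (Set.mem_iUnion.2 ⟨i, hcon⟩)

/-- over an integral algebra over a field, localization away from an element is surjective -/
theorem surjective_algebraMap_away [Algebra.IsIntegral k C] (f : C) (S : Type*) [CommRing S]
    [Algebra C S] [IsLocalization.Away f S] : Function.Surjective (algebraMap C S) := by
  classical
  let B := Algebra.adjoin k ({f} : Set C)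
  haveI : Module.Finite k B :=
    Algebra.finite_adjoin_simple_of_isIntegral (Algebra.IsIntegral.isIntegral f)
  haveI : IsArtinianRing B := IsArtinianRing.of_finite k B
  let fB : B := ⟨f, Algebra.subset_adjoin rfl⟩
  -- the chain of ideals `(f^n)` stabilizes
  let chain : ℕ →o (Ideal B)ᵒᵈ :=
    ⟨fun n => OrderDual.toDual (Ideal.span {fB ^ n}), fun n m hnm => by
      show Ideal.span {fB ^ m} ≤ Ideal.span {fB ^ n}
      rw [Ideal.span_singleton_le_span_singleton]
      exact pow_dvd_pow fB hnm⟩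
  obtain ⟨n, hn⟩ := IsArtinian.monotone_stabilizes chain
  have h1 : Ideal.span {fB ^ n} = Ideal.span {fB ^ (n + 1)} := by
    have := hn (n + 1) (Nat.le_succ n)
    exact congrArg OrderDual.ofDual this
  have h2 : fB ^ n ∈ Ideal.span {fB ^ (n + 1)} := by
    rw [← h1]; exact Ideal.subset_span rfl
  obtain ⟨c, hc⟩ := Ideal.mem_span_singleton'.1 h2
  -- in `C`: `f^n = c * f^(n+1)`
  have h3 : f ^ n = (c : C) * f ^ (n + 1) := by
    have := congrArg (B.val : B → C) hc
    simpa [fB] using this.symm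
  have hfu : IsUnit (algebraMap C S f) := IsLocalization.Away.algebraMap_isUnit f
  have h4 : algebraMap C S (c : C) * algebraMap C S f = 1 := by
    have h5 := congrArg (algebraMap C S) h3
    rw [map_mul, map_pow, map_pow, pow_succ, ← mul_assoc] at h5
    have hu : IsUnit (algebraMap C S f ^ n) := hfu.pow n
    have h6 : (1 : S) * algebraMap C S f ^ n =
        (algebraMap C S (c : C) * algebraMap C S f) * algebraMap C S f ^ n := by
      linear_combination h5
    exact (hu.mul_left_inj.1 h6).symm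
  intro z
  obtain ⟨j, a, ha⟩ := IsLocalization.Away.surj f z
  refine ⟨a * (c : C) ^ j, ?_⟩
  rw [map_mul, map_pow, ← ha, mul_assoc, ← mul_pow, mul_comm (algebraMap C S f), h4, one_pow,
    mul_one]

end Integral

end Groth.Agent.H46.AmpleInt
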