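import Mathlib
import Groth.Agent.H46.AmpleInt.Euclid

/-!
# Uniform non-vanishing over the spectrum of an integral algebra over a field (helper46)
-/

set_option autoImplicit false
universe u
open CategoryTheory CategoryTheory.Limits AlgebraicGeometry TopologicalSpace Opposite

namespace Groth.Agent.H46.AmpleInt

variable {X : Scheme.{u}}

/-- Let `Y` be an affine scheme whose ring of global functions is an integral algebra over a field
`k`, `g : Y ⟶ X` a morphism, `U` an open of `X` with quasi-compact preimage and `b` a function on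
`U`.  Then for some `m` the function `EY 1 b m` vanishes nowhere on the image of `g⁻¹ U`. -/
theorem exists_preimage_le_basicOpen_of_isAffine (k : Type u) [Field k] (Y : Scheme.{u}) [IsAffine Y]
    [Algebra k Γ(Y, ⊤)] [Algebra.IsIntegral k Γ(Y, ⊤)] (g : Y ⟶ X) (U : X.Opens)
    (hc : IsCompact ((g ⁻¹ᵁ U : Y.Opens) : Set Y)) (b : Γ(X, U)) :
    ∃ m : ℕ, g ⁻¹ᵁ U ≤ g ⁻¹ᵁ (X.basicOpen (EY 1 b m)) := by
  classical
  -- a finite cover of the preimage by basic opens
  obtain ⟨Us, hUsB, hUsfin, hUs⟩ := (isBasis_basicOpen Y).exists_finite_of_isCompact hc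
  haveI : Finite Us := hUsfin
  have hf : ∀ V : Us, ∃ f : Γ(Y, ⊤), Y.basicOpen f = V.1 := fun V => hUsB V.2
  choose f hfV using hf
  have hle : ∀ V : Us, Y.basicOpen (f V) ≤ g ⁻¹ᵁ U := by
    intro V
    rw [hfV V, hUs]
    exact le_sSup V.2
  -- the pulled back functions come from global functions
  have ha : ∀ V : Us, ∃ a : Γ(Y, ⊤),
      algebraMap Γ(Y, ⊤) Γ(Y, Y.basicOpen (f V)) a = g.appLE U (Y.basicOpen (f V)) (hle V) b :=
    fun V => surjective_algebraMap_away (k := k) (f V) Γ(Y, Y.basicOpen (f V)) _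
  choose a haV using ha
  obtain ⟨m, hm⟩ := exists_forall_isUnit_EY (k := k) a (fun V => Algebra.IsIntegral.isIntegral _)
  refine ⟨m, ?_⟩
  rw [hUs, sSup_le_iff]
  intro V hV
  have hV' := hfV ⟨V, hV⟩
  simp only at hV'
  rw [← hV']
  -- the function `EY 1 b m` pulls back to a unit on the basic open
  have hunit : IsUnit (g.appLE U (Y.basicOpen (f ⟨V, hV⟩)) (hle ⟨V, hV⟩) (EY 1 b m)) := by
    have h1 := map_EY (g.appLE U (Y.basicOpen (f ⟨V, hV⟩)) (hle ⟨V, hV⟩)).hom 1 b m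
    have h2 := map_EY (algebraMap Γ(Y, ⊤) Γ(Y, Y.basicOpen (f ⟨V, hV⟩))) 1 (a ⟨V, hV⟩) m
    rw [map_one] at h1 h2
    rw [haV ⟨V, hV⟩] at h2
    have h3 : g.appLE U (Y.basicOpen (f ⟨V, hV⟩)) (hle ⟨V, hV⟩) (EY 1 b m) =
        algebraMap Γ(Y, ⊤) Γ(Y, Y.basicOpen (f ⟨V, hV⟩)) (EY 1 (a ⟨V, hV⟩) m) :=
      h1.trans h2.symm
    rw [h3]
    exact (hm ⟨V, hV⟩).map _
  have h4 := Scheme.basicOpen_appLE g (Y.basicOpen (f ⟨V, hV⟩)) U (hle ⟨V, hV⟩) (EY 1 b m)
  rw [Scheme.basicOpen_of_isUnit _ hunit] at h4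
  exact inf_eq_left.1 h4.symm

/-- the case of the spectrum of an integral algebra over a field -/
theorem exists_preimage_le_basicOpen (k A : Type u) [Field k] [CommRing A] [Algebra k A]
    [Algebra.IsIntegral k A] (g : Spec (CommRingCat.of A) ⟶ X) (U : X.Opens)
    (hc : IsCompact ((g ⁻¹ᵁ U : (Spec (CommRingCat.of A)).Opens) : Set (Spec (CommRingCat.of A))))
    (b : Γ(X, U)) :
    ∃ m : ℕ, g ⁻¹ᵁ U ≤ g ⁻¹ᵁ (X.basicOpen (EY 1 b m)) := by
  -- the `k`-algebra structure on the global sections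
  let ψ : k →+* Γ(Spec (CommRingCat.of A), ⊤) :=
    (Scheme.ΓSpecIso (CommRingCat.of A)).inv.hom.comp (algebraMap k A)
  letI : Algebra k Γ(Spec (CommRingCat.of A), ⊤) := ψ.toAlgebra
  let eA : A →ₐ[k] Γ(Spec (CommRingCat.of A), ⊤) :=
    { toRingHom := (Scheme.ΓSpecIso (CommRingCat.of A)).inv.hom
      commutes' := fun _ => rfl }
  have heA : Function.Surjective eA := by
    intro z
    refine ⟨(Scheme.ΓSpecIso (CommRingCat.of A)).hom.hom z, ?_⟩
    show (Scheme.ΓSpecIso (CommRingCat.of A)).inv.hom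
      ((Scheme.ΓSpecIso (CommRingCat.of A)).hom.hom z) = z
    rw [← CommRingCat.comp_apply, Iso.hom_inv_id]
    rfl
  haveI : Algebra.IsIntegral k Γ(Spec (CommRingCat.of A), ⊤) :=
    Algebra.IsIntegral.of_surjective eA heA
  exact exists_preimage_le_basicOpen_of_isAffine k _ g U hc b

end Groth.Agent.H46.AmpleInt
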