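import Groth.Agent.H46.AmpleInt.Merge
import Groth.Agent.H46.AmpleInt.Uniform

/-!
# Affine `X_s` through the image of the spectrum of an integral algebra over a field (helper46)
-/

set_option autoImplicit false
set_option linter.style.haveILetI false
universe u
open CategoryTheory CategoryTheory.Limits AlgebraicGeometry TopologicalSpace Opposite

namespace Groth.Agent.H46.AmpleInt

open Groth.Agent.H18 Groth.Agent.H18.PUP Groth.Agent.H18.STL Groth.Agent.H67.BasisLocal
open Groth.Agent.H67.SumSections Groth.Agent.H67.SepCover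

variable {X : Scheme.{u}}

/-- transfer of a section of `(L^{⊗N})^{⊗k}` to a section of `L^{⊗N'}`, `N' = N * k` -/
theorem exists_transfer_pow_pow {L : X.Modules} (hL : PicF.IsInvertible L) (N k N' : ℕ)
    (hN : N' = N * k) (u : Coh.structureModule X ⟶ CohB1.tensorPow (CohB1.tensorPow L N) k) :
    ∃ a : Coh.structureModule X ⟶ CohB1.tensorPow L N',
      CohB1.genLocus _ a = CohB1.genLocus _ u := by
  subst hN
  obtain ⟨𝔄⟩ := nonempty_atlas hL
  have w₀ := hasWeight_tensorPow 𝔄 (N * k)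
  have w₁ := (hasWeight_tensorPow 𝔄 N).lpow k
  obtain ⟨a, -, ha⟩ := w₁.exists_transfer w₀ u
  exact ⟨a, ha⟩

section

variable (L : X.Modules) (W : X.Opens)

/-- the opens `X_s ⊆ W` which are affine, for `s` a section of a positive power of `L` -/
def Good (V : X.Opens) : Prop :=
  ∃ (n : ℕ) (s : Coh.structureModule X ⟶ CohB1.tensorPow L (n + 1)),
    CohB1.genLocus _ s = V ∧ IsAffineOpen V ∧ V ≤ W

variable {L W}

theorem good_bot (hL : PicF.IsInvertible L) : Good L W ⊥ :=
  ⟨0, 0, genLocus_zero (isInvertible_tensorPow hL _), isAffineOpen_bot X, bot_le⟩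

/-- merging two good opens -/
theorem exists_good_merge (hL : PicF.IsInvertible L) [X.IsSeparated]
    (k A : Type u) [Field k] [CommRing A] [Algebra k A] [Algebra.IsIntegral k A]
    (g : Spec (CommRingCat.of A) ⟶ X) {V₁ V₂ : X.Opens} (h₁ : Good L W V₁) (h₂ : Good L W V₂) :
    ∃ V : X.Opens, Good L W V ∧ g ⁻¹ᵁ V₁ ≤ g ⁻¹ᵁ V ∧ g ⁻¹ᵁ V₂ ≤ g ⁻¹ᵁ V := by
  obtain ⟨n₁, s₁, rfl, haff₁, hW₁⟩ := h₁
  obtain ⟨n₂, s₂, rfl, haff₂, hW₂⟩ := h₂
  obtain ⟨a, b, ha, hb⟩ := exists_common_power hL s₁ s₂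
  have hM : PicF.IsInvertible (CohB1.tensorPow L ((n₁ + 1) * (n₂ + 1))) :=
    isInvertible_tensorPow hL _
  have haaff : IsAffineOpen (CohB1.genLocus _ a) := by rw [ha]; exact haff₁
  have hbaff : IsAffineOpen (CohB1.genLocus _ b) := by rw [hb]; exact haff₂
  obtain ⟨b₀, hb₀⟩ := exists_merge hM a b haaff hbaff
  -- `g` is an affine morphism
  haveI : IsAffineHom (g ≫ terminal.from X) := by
    rw [terminal.comp_from]; infer_instance
  haveI : IsAffineHom g := IsAffineHom.of_comp g (terminal.from X)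
  have hc : IsCompact ((g ⁻¹ᵁ CohB1.genLocus _ a : (Spec (CommRingCat.of A)).Opens) :
      Set (Spec (CommRingCat.of A))) := (haaff.preimage g).isCompact
  obtain ⟨m, hm⟩ := exists_preimage_le_basicOpen k A g _ hc b₀
  obtain ⟨u, huaff, hule, huinf, hut⟩ := hb₀ m
  obtain ⟨n', hn'⟩ : ∃ n', (n₁ + 1) * (n₂ + 1) * (eexp m + 1) = n' + 1 :=
    Nat.exists_eq_succ_of_ne_zero (by positivity)
  obtain ⟨u', hu'⟩ := exists_transfer_pow_pow hL _ _ (n' + 1) hn'.symm u
  have key₁ : g ⁻¹ᵁ CohB1.genLocus _ a ≤ g ⁻¹ᵁ CohB1.genLocus _ u := by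
    refine hm.trans ?_
    rw [← huinf]
    intro p hp
    exact hp.1
  refine ⟨CohB1.genLocus _ u, ⟨n', u', hu', huaff, ?_⟩, ?_, ?_⟩
  · refine hule.trans (sup_le ?_ ?_)
    · rw [ha]; exact hW₁
    · rw [hb]; exact hW₂
  · rw [← ha]; exact key₁
  · rw [← hb]
    intro p hp
    by_cases hpa : g.base p ∈ CohB1.genLocus _ a
    · exact key₁ hpa
    · exact hut _ hp hpa

/-- merging finitely many good opens -/
theorem exists_good_finset (hL : PicF.IsInvertible L) [X.IsSeparated]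
    (k A : Type u) [Field k] [CommRing A] [Algebra k A] [Algebra.IsIntegral k A]
    (g : Spec (CommRingCat.of A) ⟶ X) (F : Finset X.Opens) (hF : ∀ V ∈ F, Good L W V) :
    ∃ V : X.Opens, Good L W V ∧ ∀ V' ∈ F, g ⁻¹ᵁ V' ≤ g ⁻¹ᵁ V := by
  classical
  induction F using Finset.induction_on with
  | empty => exact ⟨⊥, good_bot hL, by simp⟩
  | insert V₀ F _ ih =>
    obtain ⟨V₁, hV₁, hle⟩ := ih (fun V hV => hF V (Finset.mem_insert_of_mem hV))
    obtain ⟨V, hV, h0, h1⟩ :=
      exists_good_merge hL k A g (hF V₀ (Finset.mem_insert_self _ _)) hV₁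
    refine ⟨V, hV, fun V' hV' => ?_⟩
    rcases Finset.mem_insert.1 hV' with rfl | hV'
    · exact h0
    · exact (hle V' hV').trans h1

end

/-- EGA-style statement: an integral algebra over a field mapping into an open `W` of a scheme
with an ample invertible module factors through an affine `X_s ⊆ W`. -/
theorem main (L : X.Modules) (hL : CohB1.IsAmple L)
    (k A : Type u) [Field k] [CommRing A] [Algebra k A] [Algebra.IsIntegral k A]
    (W : X.Opens) (g : Spec (CommRingCat.of A) ⟶ X) (hg : Set.range g.base ⊆ (W : Set X)) :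
    ∃ (n : ℕ) (s : Coh.structureModule X ⟶ CohB1.tensorPow L (n + 1)),
      IsAffineOpen (CohB1.genLocus _ s) ∧ CohB1.genLocus _ s ≤ W ∧
        Set.range g.base ⊆ (CohB1.genLocus _ s : Set X) := by
  classical
  have hLinv : PicF.IsInvertible L := hL.1
  haveI : X.IsSeparated := isSeparated_of_affine_genLocus_cover X L hLinv hL.2.2
  -- a good neighbourhood of every point of the image
  have hpt : ∀ p : Spec (CommRingCat.of A), ∃ V : X.Opens, Good L W V ∧ g.base p ∈ V := by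
    intro p
    obtain ⟨n, s, hps, hsW, haff⟩ := exists_genLocus_nhd_of_isAmple hL W (g.base p) (hg ⟨p, rfl⟩)
    exact ⟨_, ⟨n, s, rfl, haff, hsW⟩, hps⟩
  choose V hV hpV using hpt
  obtain ⟨t, ht⟩ := isCompact_univ.elim_finite_subcover
    (fun p : Spec (CommRingCat.of A) => ((g ⁻¹ᵁ V p : (Spec (CommRingCat.of A)).Opens) :
      Set (Spec (CommRingCat.of A))))
    (fun p => (g ⁻¹ᵁ V p).2) (fun p _ => Set.mem_iUnion.2 ⟨p, hpV p⟩)
  obtain ⟨V₀, ⟨n, s, hs, haff, hW⟩, hle⟩ := exists_good_finset hLinv k A g (t.image V) (by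
    intro V' hV'
    obtain ⟨p, -, rfl⟩ := Finset.mem_image.1 hV'
    exact hV p)
  refine ⟨n, s, hs ▸ haff, hs ▸ hW, ?_⟩
  rintro _ ⟨p, rfl⟩
  rw [hs]
  have hp := ht (Set.mem_univ p)
  simp only [Set.mem_iUnion] at hp
  obtain ⟨q, hq, hpq⟩ := hp
  exact hle (V q) (Finset.mem_image_of_mem V hq) hpq

end Groth.Agent.H46.AmpleInt
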