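import Groth.Agent.H67.AmpleFinite
import Groth.Agent.H46.AmpleInt.Euclid

/-!
# Merging two sections of an invertible module (helper46)

For two global sections `s`, `t` of an invertible module `M` with affine loci `X_s`, `X_t` we
construct, for every `m`, the section `u_m = EY s t m` of `M^{⊗ (eexp m + 1)}`: its locus is affine,
contained in `X_s ∪ X_t`, contains `X_t ∖ X_s`, and meets `X_s` in the basic open of `EY 1 b m`
where `t = b s` on `X_s`.
-/

set_option autoImplicit false
set_option linter.style.haveILetI false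
universe u
open CategoryTheory CategoryTheory.Limits AlgebraicGeometry TopologicalSpace Opposite

namespace Groth.Agent.H46.AmpleInt

open Groth.Agent.H18 Groth.Agent.H18.PUP Groth.Agent.H18.STL Groth.Agent.H67.BasisLocal
open Groth.Agent.H67.SumSections

variable {X : Scheme.{u}}

section Weight

variable {L : X.Modules} {𝔄 : Atlas L}

theorem coords_add {Q : X.Modules} {k : ℕ} {β : ∀ i, Γ(Q, 𝔄.W i)} (h : HasWeight 𝔄 Q k β)
    (a a' : Coh.structureModule X ⟶ Q) (i : 𝔄.ι) :
    h.coords (a + a') i = h.coords a i + h.coords a' i := by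
  symm
  apply h.coords_unique
  rw [val_add, add_smul, ← h.coords_spec, ← h.coords_spec]
  rfl

theorem genLocus_le_of_coords {Q Q' : X.Modules} {k k' : ℕ} {β : ∀ i, Γ(Q, 𝔄.W i)}
    {β' : ∀ i, Γ(Q', 𝔄.W i)} (h : HasWeight 𝔄 Q k β) (h' : HasWeight 𝔄 Q' k' β')
    (a : Coh.structureModule X ⟶ Q) (a' : Coh.structureModule X ⟶ Q')
    (hle : ∀ i, X.basicOpen (h.coords a i) ≤ X.basicOpen (h'.coords a' i)) :
    CohB1.genLocus Q a ≤ CohB1.genLocus Q' a' := by
  intro x hx
  obtain ⟨i, hi⟩ := 𝔄.cov x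
  have h1 : x ∈ CohB1.genLocus Q a ⊓ 𝔄.W i := ⟨hx, hi⟩
  rw [h.genLocus_inf a i] at h1
  have h2 := hle i h1
  rw [← h'.genLocus_inf a' i] at h2
  exact h2.1

theorem exists_section_of_coords {Q : X.Modules} {k : ℕ} {β : ∀ i, Γ(Q, 𝔄.W i)}
    (h : HasWeight 𝔄 Q k β) (r : ∀ i, Γ(X, 𝔄.W i))
    (hr : ∀ i j, rres X inf_le_left (r i) = rres X inf_le_right (r j) * 𝔄.trans i j ^ k) :
    ∃ a : Coh.structureModule X ⟶ Q, ∀ i, h.coords a i = r i := by
  obtain ⟨a, ha⟩ := h.exists_of_coords r hr
  exact ⟨a, fun i => (h.coords_unique a i _ (ha i)).symm⟩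

end Weight

/-- an atlas extended by the two charts `(X_s, s)` and `(X_t, t)` -/
noncomputable def extAtlas {M : X.Modules} (hM : PicF.IsInvertible M) (𝔄 : Atlas M)
    (s t : Coh.structureModule X ⟶ M) : Atlas M where
  ι := Option (Option 𝔄.ι)
  W := fun i => match i with
    | none => CohB1.genLocus M s
    | some none => CohB1.genLocus M t
    | some (some i) => 𝔄.W i
  cov x := by
    obtain ⟨i, hi⟩ := 𝔄.cov x
    exact ⟨some (some i), hi⟩
  e := fun i => match i with
    | none => SecTwist.val s (CohB1.genLocus M s)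
    | some none => SecTwist.val t (CohB1.genLocus M t)
    | some (some i) => 𝔄.e i
  basis := fun i => match i with
    | none => isBasisOn_genLocus hM s
    | some none => isBasisOn_genLocus hM t
    | some (some i) => 𝔄.basis i

/-- the merge of two sections -/
theorem exists_merge {M : X.Modules} (hM : PicF.IsInvertible M)
    (s t : Coh.structureModule X ⟶ M) (hs : IsAffineOpen (CohB1.genLocus M s))
    (ht : IsAffineOpen (CohB1.genLocus M t)) :
    ∃ b : Γ(X, CohB1.genLocus M s), ∀ m : ℕ,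
      ∃ u : Coh.structureModule X ⟶ CohB1.tensorPow M (eexp m + 1),
        IsAffineOpen (CohB1.genLocus _ u) ∧
        CohB1.genLocus _ u ≤ CohB1.genLocus M s ⊔ CohB1.genLocus M t ∧
        CohB1.genLocus _ u ⊓ CohB1.genLocus M s = X.basicOpen (EY 1 b m) ∧
        ∀ x ∈ CohB1.genLocus M t, x ∉ CohB1.genLocus M s → x ∈ CohB1.genLocus _ u := by
  classical
  obtain ⟨𝔄₀⟩ := nonempty_atlas hM
  let 𝔅 : Atlas M := extAtlas hM 𝔄₀ s t
  have h1 : HasWeight 𝔅 M 1 𝔅.e := hasWeight_self 𝔅
  -- coordinates of `s` and `t`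
  let σ : ∀ i, Γ(X, 𝔅.W i) := h1.coords s
  let τ : ∀ i, Γ(X, 𝔅.W i) := h1.coords t
  have hσc : ∀ i j, rres X inf_le_left (σ i) = rres X inf_le_right (σ j) * 𝔅.trans i j := by
    intro i j
    have := h1.coords_trans s i j
    rwa [pow_one] at this
  have hτc : ∀ i j, rres X inf_le_left (τ i) = rres X inf_le_right (τ j) * 𝔅.trans i j := by
    intro i j
    have := h1.coords_trans t i j
    rwa [pow_one] at this
  have hσ0 : σ none = 1 := by
    symm
    apply h1.coords_unique s none 1
    exact (one_smul _ _).symm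
  have hτ1 : τ (some none) = 1 := by
    symm
    apply h1.coords_unique t (some none) 1
    exact (one_smul _ _).symm
  have hσloc : ∀ i, CohB1.genLocus M s ⊓ 𝔅.W i = X.basicOpen (σ i) := h1.genLocus_inf s
  have hτloc : ∀ i, CohB1.genLocus M t ⊓ 𝔅.W i = X.basicOpen (τ i) := h1.genLocus_inf t
  refine ⟨τ none, fun m => ?_⟩
  have hk := hasWeight_tensorPow 𝔅 (eexp m + 1)
  -- the two summands
  obtain ⟨v, hv⟩ := exists_section_of_coords hk (fun i => τ i * EP (σ i) (τ i) m) (by
    intro i j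
    have e1 := map_EP (rres X (inf_le_left : 𝔅.W i ⊓ 𝔅.W j ≤ 𝔅.W i)).hom (σ i) (τ i) m
    have e2 := map_EP (rres X (inf_le_right : 𝔅.W i ⊓ 𝔅.W j ≤ 𝔅.W j)).hom (σ j) (τ j) m
    have e3 : rres X (inf_le_left : 𝔅.W i ⊓ 𝔅.W j ≤ 𝔅.W i) (EP (σ i) (τ i) m) =
        EP (rres X inf_le_left (σ i)) (rres X inf_le_left (τ i)) m := e1
    have e4 : rres X (inf_le_right : 𝔅.W i ⊓ 𝔅.W j ≤ 𝔅.W j) (EP (σ j) (τ j) m) =
        EP (rres X inf_le_right (σ j)) (rres X inf_le_right (τ j)) m := e2
    rw [map_mul, map_mul, e3, e4, hσc i j, hτc i j, EP_mul]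
    ring)
  obtain ⟨w, hw⟩ := exists_section_of_coords hk (fun i => σ i ^ (eexp m + 1)) (by
    intro i j
    rw [map_pow, map_pow, hσc i j, mul_pow])
  have hM' : PicF.IsInvertible (CohB1.tensorPow M (eexp m + 1)) := isInvertible_tensorPow hM _
  -- the loci of the summands
  have hwloc : CohB1.genLocus _ w = CohB1.genLocus M s := by
    apply le_antisymm
    · refine genLocus_le_of_coords hk h1 w s (fun i => ?_)
      rw [hw i, X.basicOpen_pow _ (Nat.succ_pos _)]
    · refine genLocus_le_of_coords h1 hk s w (fun i => ?_)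
      rw [hw i, X.basicOpen_pow _ (Nat.succ_pos _)]
  have hvle : CohB1.genLocus _ v ≤ CohB1.genLocus M t := by
    refine genLocus_le_of_coords hk h1 v t (fun i => ?_)
    rw [hv i, Scheme.basicOpen_mul]
    exact inf_le_left
  have hvaff : IsAffineOpen (CohB1.genLocus _ v) := isAffineOpen_genLocus_of_le hM' v ht hvle
  have hwaff : IsAffineOpen (CohB1.genLocus _ w) := by rw [hwloc]; exact hs
  -- the coordinates of the sum
  have hu : ∀ i, hk.coords (v + w) i = EY (σ i) (τ i) m := by
    intro i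
    rw [coords_add, hv i, hw i]
    rfl
  refine ⟨v + w, isAffineOpen_genLocus_add hM' v w hvaff hwaff, ?_, ?_, ?_⟩
  · refine (genLocus_add_le hM' v w).trans ?_
    rw [hwloc, sup_comm]
    exact sup_le_sup_left hvle _
  · have := hk.genLocus_inf (v + w) none
    rw [hu none, hσ0] at this
    exact this
  · intro x hxt hxs
    have hx1 : x ∈ 𝔅.W (some none) := hxt
    have hloc := hk.genLocus_inf (v + w) (some none)
    rw [hu (some none), hτ1] at hloc
    suffices hx : x ∈ X.basicOpen (EY (σ (some none)) 1 m) by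
      rw [← hloc] at hx
      exact hx.1
    rw [Scheme.mem_basicOpen _ _ x hx1]
    have hnu : ¬ IsUnit (X.presheaf.germ (𝔅.W (some none)) x hx1 (σ (some none))) := by
      rw [← Scheme.mem_basicOpen _ _ x hx1, ← hσloc (some none)]
      exact fun h => hxs h.1
    have e1 := map_EY (X.presheaf.germ (𝔅.W (some none)) x hx1).hom (σ (some none)) 1 m
    rw [map_one] at e1
    have e2 : X.presheaf.germ (𝔅.W (some none)) x hx1 (EY (σ (some none)) 1 m) =
        EY (X.presheaf.germ (𝔅.W (some none)) x hx1 (σ (some none))) 1 m := e1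
    rw [e2]
    exact (isUnit_EP_EY_of_local _ 1 hnu isUnit_one m).2

end Groth.Agent.H46.AmpleInt
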